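import Groth.Agent.KPointChart.IsoAlg
import Groth.Agent.ASt.RepDesc
import Groth.Agent.ASp.UnramDiag
import Groth.Agent.ASt.InertiaDiag
import Groth.Prelude.Def_StGerb2
/-!
Automorphisms lift along an étale morphism as soon as they lift at geometric points.
-/

set_option autoImplicit false
set_option backward.isDefEq.respectTransparency false
set_option backward.isDefEq.respectTransparency.types false
set_option linter.unusedSectionVars false
set_option linter.style.haveILetI false

universe u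

open CategoryTheory CategoryTheory.Limits AlgebraicGeometry Opposite

namespace Groth.Agent.EtStab

open _root_.AlgSp Groth.Agent.ASt Groth.Agent.ASp Groth.Agent.KPointChart

variable {S : Scheme.{u}} {𝒰 𝒳 : AlgSt.Cat S} [h𝒰 : FibCat.IsFibGrpd 𝒰.p] [h𝒳 : FibCat.IsFibGrpd 𝒳.p]
  (h : 𝒰 ⥤ᵇ 𝒳) {B : Over S}

/-- Two sections of an unramified morphism agreeing at all geometric points are equal. -/
theorem eq_of_geometric {E : Sp S} {T V : Over S} (hE : IsAlgSpace E) (π : E ⟶ (yon S).obj V)
    (hπ : LocP (@LocallyOfFiniteType ⊓ @FormallyUnramified) π) (l₁ l₂ : (yon S).obj T ⟶ E) (he : l₁ ≫ π = l₂ ≫ π)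
    (hg : ∀ (K : Type u) [Field K] [IsAlgClosed K] (g : Spec (CommRingCat.of K) ⟶ T.left),
      (yon S).map (Over.homMk g rfl : Over.mk (g ≫ T.hom) ⟶ T) ≫ l₁ =
        (yon S).map (Over.homMk g rfl : Over.mk (g ≫ T.hom) ⟶ T) ≫ l₂) : l₁ = l₂ := by
  have hd := repWith_diagonal_isOpenImmersion_of_unramified hE (IsAlgSpace.yon_obj V) hπ
  let m : (yon S).obj T ⟶ pullback π π := pullback.lift l₁ l₂ he
  have hsq := hd.1.isPullback m
  let j : hd.1.pullback m ⟶ T := hd.1.snd m
  haveI : IsOpenImmersion j.left := hd.2 m _ _ hsq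
  haveI : Surjective j.left := ⟨fun t => by
    let K : Type u := AlgebraicClosure (T.left.residueField t)
    let g : Spec (CommRingCat.of K) ⟶ T.left :=
      Spec.map (CommRingCat.ofHom (algebraMap (T.left.residueField t) K)) ≫ T.left.fromSpecResidueField t
    let ω : Over.mk (g ≫ T.hom) ⟶ T := Over.homMk g rfl
    obtain ⟨n, hn⟩ := (yon S).map_surjective (hsq.lift ((yon S).map ω ≫ l₁) ((yon S).map ω) (by
      apply pullback.hom_ext
      · simp [m]
      · simp only [Category.assoc, pullback.diagonal_snd, Category.comp_id, m, pullback.lift_snd]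
        exact hg K g))
    have h2 : n ≫ j = ω := (yon S).map_injective (by rw [Functor.map_comp, hn, hsq.lift_snd])
    refine ⟨n.left (IsLocalRing.closedPoint K), ?_⟩
    change (n.left ≫ j.left) _ = t
    rw [← Over.comp_left, h2]
    change g _ = t
    simp only [g, Scheme.Hom.comp_apply]
    exact Scheme.fromSpecResidueField_apply t _⟩
  haveI : IsIso j.left := (isIso_iff_isOpenImmersion_and_epi_base _).2 ⟨inferInstance, (TopCat.epi_iff_surjective _).2 j.left.surjective⟩
  haveI : IsIso j := by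
    haveI : IsIso ((Over.forget S).map j) := ‹IsIso j.left›
    exact isIso_of_reflects_iso j (Over.forget S)
  have e := hsq.w
  have e₁ := e =≫ pullback.fst π π
  have e₂ := e =≫ pullback.snd π π
  simp only [Category.assoc, m, pullback.lift_fst, pullback.lift_snd, pullback.diagonal_fst, pullback.diagonal_snd,
    Category.comp_id] at e₁ e₂
  exact (cancel_epi ((yon S).map j)).1 (e₁.symm.trans e₂)

/-- The automorphism of an object given by one between values. -/
noncomputable def toAutO {y : FibCat.overCat B ⥤ᵇ 𝒳} {T : Over S} {k : T ⟶ B} (β : IsoG y k k) :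
    Gerb.AutO (y.obj (ov k)) where
  hom := ⟨β.hom, isHomLift_id_of_map _ rfl (β.vert.trans rfl)⟩
  inv := ⟨β.symm.hom, isHomLift_id_of_map _ rfl (β.symm.vert.trans rfl)⟩
  hom_inv_id := by
    apply Functor.Fiber.hom_ext
    exact IsIso.hom_inv_id β.hom
  inv_hom_id := by
    apply Functor.Fiber.hom_ext
    exact IsIso.inv_hom_id β.hom

/-- Automorphisms lift along an étale morphism surjective on geometric automorphisms. -/
theorem exists_lift_auto (het : AlgSt.RepByAlgSpWith IsEtaleMor h)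
    (hsur : ∀ (Ω : Type u) [Field Ω] [IsAlgClosed Ω] (t : Spec (CommRingCat.of Ω) ⟶ S)
      (v : 𝒰.p.Fiber (Over.mk t)), Function.Surjective (Gerb.autMap h v.1))
    (b : FibCat.overCat B ⥤ᵇ 𝒰) {T : Over S} {k : T ⟶ B} (β : IsoG (BasedFunctor.comp b h) k k) :
    ∃ γ : IsoG b k k, h.map γ.hom = β.hom := by
  obtain ⟨F, e, he, hP⟩ := het B (BasedFunctor.comp b h)
  have hlocP : AlgSt.RepByAlgSpWith (LocP (@LocallyOfFiniteType ⊓ @FormallyUnramified)) h :=
    repByAlgSpWith_mono (fun X Y a _ hY ha U V p q r hp hq e => by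
      haveI : Etale r.left := (isEtaleMor_iff_locP hY).1 ha p q r hp hq e
      exact ⟨inferInstance, inferInstance⟩) het
  obtain ⟨hs, hA, hπ⟩ := (repByAlgSpWith_iff.1 hlocP).2 B (BasedFunctor.comp b h)
  let E : Sp S := ⟨fib (BasedFunctor.comp b h) h, hs⟩
  let π : E ⟶ (yon S).obj B := ObjectProperty.homMk (fibπ (BasedFunctor.comp b h) h)
  have hmk : ∀ {T' : Over S} {k' : T' ⟶ B} (δ : IsoG (BasedFunctor.comp b h) k' k'),
      𝒳.p.map δ.hom = eqToHom ((((BasedFunctor.comp b h).w_obj (ov k')).trans (ov_base k')).trans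
        ((base_eq b k').symm.trans (h.w_obj (b.obj (ov k'))).symm)) := fun δ => δ.vert.trans rfl
  let el : ∀ {T' : Over S} {k' : T' ⟶ B}, IsoG (BasedFunctor.comp b h) k' k' →
      ClType (FibCat.fp (BasedFunctor.comp b h) h) T' := fun {T' k'} δ =>
    fpEl k' (b.obj (ov k')) (base_eq b k') δ.hom (hmk δ)
  have hel : ∀ {T' : Over S} {k' : T' ⟶ B} (g : T' ⟶ T) (e : g ≫ k = k') (δ : IsoG (BasedFunctor.comp b h) k k),
      clMap g (el δ) = el (IsoG.res g e e δ) := fun g e δ =>
    clMap_fpEl g e (b.map (ovHom g e)) (IsoG.res_comp g e e δ).symm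
  let l₁ : (yon S).obj T ⟶ E := homOf (el (IsoG.refl k))
  let l₂ : (yon S).obj T ⟶ E := homOf (el β)
  have hπl : ∀ δ : IsoG (BasedFunctor.comp b h) k k, (homOf (el δ) : (yon S).obj T ⟶ E) ≫ π = (yon S).map k :=
    fun δ => secOf_injective (by
      rw [secOf_comp, secOf_homOf]
      change (⟨fpHom (el δ)⟩ : ULift _) = ⟨𝟙 _ ≫ k⟩
      rw [fpHom_fpEl, Category.id_comp])
  have hl : l₁ = l₂ := by
    refine eq_of_geometric hA π hπ l₁ l₂ ((hπl _).trans (hπl _).symm) fun K _ _ g => ?_
    apply secOf_injective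
    rw [secOf_map, secOf_map, secOf_homOf, secOf_homOf]
    change clMap _ (el _) = clMap _ (el _)
    rw [hel _ rfl, hel _ rfl, IsoG.res_refl]
    let ω : Over.mk (g ≫ T.hom) ⟶ T := Over.homMk g rfl
    let δ := IsoG.res ω rfl rfl β
    let v : 𝒰.p.Fiber (Over.mk (g ≫ T.hom)) := ⟨b.obj (ov (ω ≫ k)), base_eq b (ω ≫ k)⟩
    obtain ⟨α, hα⟩ := hsur K (g ≫ T.hom) v (toAutO δ)
    refine fpEl_eq_iff.2 ⟨α.hom.1, (haveI := α.hom.2; (map_of_isHomLift_id (p := 𝒰.p) (R := 𝒰.p.obj v.1) α.hom.1).trans rfl), ?_⟩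
    · refine (Category.id_comp _).trans ?_
      exact congrArg (fun a => a.hom.1) hα
  have hel' : el (IsoG.refl k) = el β := by
    have := congrArg KPointChart.secOf hl
    rwa [secOf_homOf, secOf_homOf] at this
  obtain ⟨a, ha, ha'⟩ := fpEl_eq_iff.1 hel'
  exact ⟨⟨a, ha.trans rfl⟩, (Category.id_comp _).symm.trans ha'⟩

end Groth.Agent.EtStab
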