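import Groth.Agent.EtStab.Aut
import Groth.Agent.KPointChart.Coprod
import Groth.Agent.KPointChart.Main
import Groth.Agent.ASt.FpSp
import Groth.Agent.ASt.PtsMor
import Groth.Agent.ASt.SrcDesc
import Groth.Agent.ASt.Props
import Groth.Agent.ASp.ProperQf
import Groth.Agent.DecSec.GerbeCrit2
import Groth.Agent.S10540
/-!
Inertia is finite as soon as it is so on étale charts keeping the stabilisers.
-/

set_option autoImplicit false
set_option backward.isDefEq.respectTransparency false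
set_option backward.isDefEq.respectTransparency.types false
set_option linter.unusedSectionVars false
set_option linter.style.haveILetI false

universe u

open CategoryTheory CategoryTheory.Limits AlgebraicGeometry Opposite

namespace Groth.Agent.EtStab

open _root_.AlgSp Groth.Agent.ASt Groth.Agent.ASp Groth.Agent.KPointChart

variable {S : Scheme.{u}} {𝒰 𝒳 : AlgSt.Cat S} [h𝒰 : FibCat.IsFibGrpd 𝒰.p] [h𝒳 : FibCat.IsFibGrpd 𝒳.p]

attribute [local instance] Groth.Agent.ASt.isFibGrpd_inertia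

/-- The fibres of the inertia are fibred in groupoids. -/
theorem isFibGrpd_fp_inertia {B : Over S} (y : FibCat.overCat B ⥤ᵇ 𝒳) :
    FibCat.IsFibGrpd (FibCat.fp y (FibCat.inertiaToBase (FibCat.toSelf 𝒳))).p := isFibGrpd_fp

attribute [local instance] isFibGrpd_fp_inertia

/-- The map of inertias given by a morphism. -/
noncomputable def inertiaMap (h : 𝒰 ⥤ᵇ 𝒳) :
    FibCat.inertia (FibCat.toSelf 𝒰) ⥤ᵇ FibCat.inertia (FibCat.toSelf 𝒳) where
  toFunctor :=
    { obj := fun o => ⟨h.obj o.pt, h.toFunctor.mapIso o.aut, by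
        have e : 𝒰.p.map o.aut.hom = 𝟙 _ := o.map_aut
        change 𝒳.p.map (h.map o.aut.hom) = 𝟙 _
        rw [map_w, e]
        simp⟩
      map := fun m => ⟨h.map m.hom, ((h.toFunctor.map_comp _ _).symm.trans
        ((congrArg h.toFunctor.map m.comm).trans (h.toFunctor.map_comp _ _)))⟩
      map_id := fun o => FibCat.InertiaObj.hom_ext (h.toFunctor.map_id o.pt)
      map_comp := fun m n => FibCat.InertiaObj.hom_ext (h.toFunctor.map_comp m.hom n.hom) }
  w := CategoryTheory.Functor.ext (fun o => h.w_obj o.pt) (fun o o' m => map_w h m.hom)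

/-- The induced map of fibres over a chart. -/
noncomputable def fibMap (h : 𝒰 ⥤ᵇ 𝒳) {B : Over S} (b : FibCat.overCat B ⥤ᵇ 𝒰) :
    FibCat.fp b (FibCat.inertiaToBase (FibCat.toSelf 𝒰)) ⥤ᵇ
      FibCat.fp (BasedFunctor.comp b h) (FibCat.inertiaToBase (FibCat.toSelf 𝒳)) where
  toFunctor :=
    { obj := fun m => fpMk m.obj.fst ((inertiaMap h).obj m.obj.snd)
        ((h.w_obj _).trans (fp_snd_base m)) (h.toFunctor.mapIso m.obj.iso) (by
          change 𝒳.p.map (h.map m.obj.iso.hom) = _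
          rw [map_w, fp_iso_map m]
          simp)
      map := fun {m n} f => fpHomMk f.hom.fst ((inertiaMap h).map f.hom.snd)
        ((h.toFunctor.map_comp _ _).symm.trans ((congrArg h.toFunctor.map f.hom.w).trans (h.toFunctor.map_comp _ _)))
      map_id := fun m => fp_hom_ext rfl ((inertiaMap h).toFunctor.map_id _)
      map_comp := fun f g => fp_hom_ext rfl ((inertiaMap h).toFunctor.map_comp _ _) }
  w := rfl

theorem fpHom_fibMap (h : 𝒰 ⥤ᵇ 𝒳) {B : Over S} (b : FibCat.overCat B ⥤ᵇ 𝒰) (T : Over S)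
    (c : ClType (FibCat.fp b (FibCat.inertiaToBase (FibCat.toSelf 𝒰))) T) :
    fpHom (clF (fibMap h b) T c) = fpHom c := by
  obtain ⟨m, hm, rfl⟩ := cl_exists c
  rfl

theorem bijective_fibMap (h : 𝒰 ⥤ᵇ 𝒳) (het : AlgSt.RepByAlgSpWith IsEtaleMor h)
    (hsur : ∀ (Ω : Type u) [Field Ω] [IsAlgClosed Ω] (t : Spec (CommRingCat.of Ω) ⟶ S)
      (v : 𝒰.p.Fiber (Over.mk t)), Function.Surjective (Gerb.autMap h v.1))
    {B : Over S} (b : FibCat.overCat B ⥤ᵇ 𝒰) (T : Over S) : Function.Bijective (clF (fibMap h b) T) := by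
  haveI : h.toFunctor.Faithful := faithful_of_repByAlgSp1 (repByAlgSp1_of_with het)
  have himg : ∀ {k : T ⟶ B} (o : (FibCat.inertia (FibCat.toSelf 𝒰)).obj) (ho : 𝒰.p.obj o.pt = T)
      (φ : b.obj (ov k) ⟶ o.pt) (hφ) (hho : (FibCat.inertia (FibCat.toSelf 𝒳)).p.obj ((inertiaMap h).obj o) = T)
      (hhφ : 𝒳.p.map (h.map φ) = eqToHom ((((BasedFunctor.comp b h).w_obj (ov k)).trans (ov_base k)).trans
        (hho.symm.trans ((FibCat.inertiaToBase (FibCat.toSelf 𝒳)).w_obj ((inertiaMap h).obj o)).symm))),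
      clF (fibMap h b) T (fpEl (f := FibCat.inertiaToBase (FibCat.toSelf 𝒰)) k o ho φ hφ) =
        fpEl (f := FibCat.inertiaToBase (FibCat.toSelf 𝒳)) k ((inertiaMap h).obj o) hho (h.map φ) hhφ := by
    intro k o ho φ hφ hho hhφ
    refine (clF_cl _ _ _).trans ?_
    refine cl_eq_iff.2 ⟨fpHomMk (𝟙 _) (𝟙 _) ?_, ?_⟩
    · simp [fibMap, fpObj, fpMk]
    · simp [fpHomMk]
      rfl
  refine ⟨fun c c' e => ?_, fun c => ?_⟩
  · obtain ⟨k, o, ho, φ, hφ, rfl⟩ := fpEl_exists c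
    obtain ⟨k', o', ho', φ', hφ', rfl⟩ := fpEl_exists c'
    obtain rfl : k = k' := by
      have := congrArg fpHom e
      rwa [fpHom_fibMap, fpHom_fibMap, fpHom_fpEl, fpHom_fpEl] at this
    have hho : ∀ (o : (FibCat.inertia (FibCat.toSelf 𝒰)).obj), 𝒰.p.obj o.pt = T →
        (FibCat.inertia (FibCat.toSelf 𝒳)).p.obj ((inertiaMap h).obj o) = T := fun o ho => (h.w_obj o.pt).trans ho
    rw [himg o ho φ hφ (hho o ho) (by rw [map_w, hφ]; simp),
      himg o' ho' φ' hφ' (hho o' ho') (by rw [map_w, hφ']; simp)] at e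
    obtain ⟨m, hm, hm'⟩ := fpEl_eq_iff.1 e
    haveI := isIso_of_vert φ hφ
    have hm0 : m.hom = h.map (inv φ ≫ φ') := by
      rw [← cancel_epi (h.map φ), ← Functor.map_comp, IsIso.hom_inv_id_assoc]
      exact hm'
    refine fpEl_eq_iff.2 ⟨⟨inv φ ≫ φ', h.toFunctor.map_injective ?_⟩, ?_, IsIso.hom_inv_id_assoc φ φ'⟩
    · have hc : h.map o.aut.hom ≫ m.hom = m.hom ≫ h.map o'.aut.hom := m.comm
      rw [hm0, ← Functor.map_comp, ← Functor.map_comp] at hc
      exact hc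
    · change 𝒰.p.map (inv φ ≫ φ') = _
      simp [hφ, hφ']
  · obtain ⟨k, o, ho, φ, hφ, rfl⟩ := fpEl_exists c
    haveI := isIso_of_vert φ hφ
    let β : IsoG (BasedFunctor.comp b h) k k := ⟨φ ≫ o.aut.hom ≫ inv φ, by
      have e : 𝒳.p.map o.aut.hom = 𝟙 _ := o.map_aut
      rw [Functor.map_comp, Functor.map_comp, e]
      simp [hφ]
      erw [Category.id_comp]
      exact (eqToHom_trans _ _).trans (eqToHom_refl _ _)⟩
    obtain ⟨γ, hγ⟩ := exists_lift_auto h het hsur b β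
    let o₀ : (FibCat.inertia (FibCat.toSelf 𝒰)).obj := ⟨b.obj (ov k), @asIso _ _ _ _ γ.hom inferInstance,
      γ.vert.trans (eqToHom_refl _ _)⟩
    refine ⟨fpEl (f := FibCat.inertiaToBase (FibCat.toSelf 𝒰)) k o₀ (base_eq b k) (𝟙 _)
      ((𝒰.p.map_id _).trans rfl), ?_⟩
    rw [himg o₀ (base_eq b k) (𝟙 _) _ ((h.w_obj _).trans (base_eq b k)) (by
      rw [CategoryTheory.Functor.map_id, CategoryTheory.Functor.map_id]
      exact (eqToHom_refl _ rfl).symm.trans rfl)]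
    refine fpEl_eq_iff.2 ⟨⟨φ, ?_⟩, hφ.trans rfl, ?_⟩
    · change h.map γ.hom ≫ φ = φ ≫ o.aut.hom
      rw [hγ]
      simp [β]
    · change h.map (𝟙 _) ≫ φ = φ
      rw [CategoryTheory.Functor.map_id]
      exact Category.id_comp φ

/-- A property local on the base is tested on an fppf covering family of the test scheme. -/
theorem fibHas_of_family {P : MorphismProperty (Sp S)} {𝒴 : AlgSt.Cat S} [FibCat.IsFibGrpd 𝒴.p] {f : 𝒴 ⥤ᵇ 𝒳}
    (hP₂ : IsLocalOnBase IsFppfCover P) (hf : AlgSt.RepByAlgSp1 f) {ι : Type u} {U : Over S} {T : ι → Over S}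
    (l : ∀ i, T i ⟶ U) [∀ i, Flat (l i).left] [∀ i, LocallyOfFinitePresentation (l i).left]
    (hcov : ∀ x : ↥U.left, ∃ i t, (l i).left t = x) (y : FibCat.overCat U ⥤ᵇ 𝒳)
    (h : ∀ i, FibHas P (BasedFunctor.comp (AlgSt.overMap (l i)) y) f) : FibHas P y f := by
  obtain ⟨hs, hA⟩ := (repByAlgSp1_iff.1 hf).2 U y
  choose hs' hA' hP using h
  refine ⟨hs, hA, (hP₂ (fun i => (yon S).obj (T i)) (fun i => (yon S).map (l i)) (IsAlgSpace.yon_obj U)
    (fun i => IsAlgSpace.yon_obj (T i))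
    ⟨fun i => ⟨locP_of_prop_left (inferInstanceAs (Flat (l i).left)),
      locP_of_prop_left (inferInstanceAs (LocallyOfFinitePresentation (l i).left))⟩, fun x => ?_⟩
    _ hA (fun i => _) (fun i => _) (fun i => _) hA'
    (fun i => IsPullback.of_map_of_faithful (sheafToPresheaf (J S) (Type (u + 1))) (isPullback_restrF (l i) y) :
      ∀ i, IsPullback (ObjectProperty.homMk (clFun (restrF (l i) y f)) :
          (⟨fib (BasedFunctor.comp (AlgSt.overMap (l i)) y) f, hs' i⟩ : Sp S) ⟶ (⟨fib y f, hs⟩ : Sp S))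
        (ObjectProperty.homMk (fibπ (BasedFunctor.comp (AlgSt.overMap (l i)) y) f))
        (ObjectProperty.homMk (fibπ y f)) ((yon S).map (l i)))).2 hP⟩
  obtain ⟨u₀, rfl⟩ := surjective_ofPt (repWith_id (@Surjective) U) x
  obtain ⟨i, t, rfl⟩ := hcov u₀
  refine ⟨i, Points.ofPt (𝟙 _) t, ?_⟩
  rw [Points.map_ofPt, Category.id_comp]
  have := ofPt_yon_map_comp (l i) (𝟙 ((yon S).obj U)) t
  rwa [Category.comp_id] at this

theorem respectsIso_finite : (onSpaces (IsFiniteMor (S := S))).RespectsIso :=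
  respectsIso_onSpaces fun _ _ _ _ h₁ h₂ h₃ h₄ _ _ _ _ sq h =>
    (isFiniteMor_iff h₃ h₄).2 (repWith_of_isPullback sq ((isFiniteMor_iff h₁ h₂).1 h))

theorem isLocalOnBase_finite : IsLocalOnBase (IsFppfCover (S := S)) (onSpaces IsFiniteMor) :=
  isLocalOnBase_onSpaces fun _ _ Yi g hY hYi hτ =>
    Groth.Agent.S10540.result S Yi g hY hYi
      (isFpqcCover_of_fppf hY hYi (fun i => (hτ.1 i).1) (fun i => (hτ.1 i).2) hτ.2)

/-- Finite inertia on a separated stack with locally quasi-finite inertia keeps to the target along an étale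
morphism keeping stabilisers. -/
theorem fibHas_inertia (h : 𝒰 ⥤ᵇ 𝒳) (het : AlgSt.RepByAlgSpWith IsEtaleMor h)
    (hsur : ∀ (Ω : Type u) [Field Ω] [IsAlgClosed Ω] (t : Spec (CommRingCat.of Ω) ⟶ S)
      (v : 𝒰.p.Fiber (Over.mk t)), Function.Surjective (Gerb.autMap h v.1))
    (hsep : AlgSt.IsSeparatedOver 𝒰) (hqf : AlgSt.IsQuasiDMOver 𝒳)
    {B : Over S} (b : FibCat.overCat B ⥤ᵇ 𝒰) :
    FibHas (onSpaces IsFiniteMor) (BasedFunctor.comp b h) (FibCat.inertiaToBase (FibCat.toSelf 𝒳)) := by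
  haveI := respectsIso_finite (S := S)
  haveI : FibCat.IsFibGrpd (FibCat.fp b (FibCat.inertiaToBase (FibCat.toSelf 𝒰))).p := isFibGrpd_fp
  haveI : FibCat.IsFibGrpd (FibCat.fp (BasedFunctor.comp b h) (FibCat.inertiaToBase (FibCat.toSelf 𝒳))).p :=
    isFibGrpd_fp
  obtain ⟨hs, hA, hp⟩ := (repByAlgSpWith_iff.1
    (repByAlgSpWith_inertiaToBase (FibCat.toSelf 𝒰) hsep)).2 B b
  obtain ⟨_, _, hq⟩ := (fibHas_iff_of_bijective (P := LocP (@LocallyQuasiFinite ⊓ @LocallyOfFiniteType))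
    (fibMap h b) (fpHom_fibMap h b) (bijective_fibMap h het hsur b)).2
      ((repByAlgSpWith_iff.1 (repByAlgSpWith_inertiaToBase (FibCat.toSelf 𝒳) hqf)).2 B (BasedFunctor.comp b h))
  refine (fibHas_iff_of_bijective (fibMap h b) (fpHom_fibMap h b) (bijective_fibMap h het hsur b)).1
    ⟨hs, hA, fun hX hY => ?_⟩
  exact isFiniteMor_of_sep_univClosed_lqf ⟨_, hX⟩ ⟨_, hY⟩ _ hp.1 hp.2.2 hq

/-- Inertia is finite if étale charts keeping stabilisers from separated stacks cover. -/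
theorem finite_inertia (h𝒳' : AlgSt.IsAlgStack Scheme.fppfPrecoverage 𝒳) (hqf : AlgSt.IsQuasiDMOver 𝒳)
    (hloc : ∀ x : AlgSt.Points 𝒳, ∃ (𝒲 : AlgSt.Cat S) (h : 𝒲 ⥤ᵇ 𝒳),
      AlgSt.IsAlgStack Scheme.fppfPrecoverage 𝒲 ∧ x ∈ Set.range (AlgSt.Points.map h) ∧
      AlgSt.RepByAlgSpWith IsEtaleMor h ∧ AlgSt.IsSeparatedOver 𝒲 ∧
      ∀ (Ω : Type u) [Field Ω] [IsAlgClosed Ω] (t : Spec (CommRingCat.of Ω) ⟶ S) (v : 𝒲.p.Fiber (Over.mk t)),
        Function.Surjective (Gerb.autMap h v.1)) :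
    AlgSt.RepByAlgSpWith IsFiniteMor (FibCat.inertiaToBase (FibCat.toSelf 𝒳)) := by
  haveI := respectsIso_finite (S := S)
  obtain ⟨U, a, ha, has⟩ := h𝒳'.atlas
  choose 𝒲 h hW hx het hsep hsur using fun t : ↥U.left => hloc (AlgSt.Points.ofChart a t)
  haveI : ∀ t, FibCat.IsFibGrpd (𝒲 t).p := fun t => (hW t).isStack.1
  choose B b hb hbs using fun t : ↥U.left => (hW t).atlas
  let c : ∀ t, FibCat.overCat (B t) ⥤ᵇ 𝒳 := fun t => BasedFunctor.comp (b t) (h t)
  obtain ⟨w, hw⟩ := exists_coprod B c (isStack_etale h𝒳'.isStack)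
  have hc : ∀ t, AlgSt.RepByAlgSpWith (LocP @Smooth) (c t) := fun t =>
    repByAlgSpWith_comp compLocal_smooth (hb t) (repByAlgSpWith_mono (fun X Y a _ hY ha U V p q r hp hq e => by
      haveI : Etale r.left := (isEtaleMor_iff_locP hY).1 ha p q r hp hq e
      infer_instance) (het t))
  have hws : AlgSt.RepByAlgSpWith (LocP @Smooth) w :=
    smooth_of_coprod B h𝒳'.diag w fun t => repByAlgSpWith_congr (Classical.choice (hw t)).symm (hc t)
  have hwsu : AlgSt.IsSurjective w := by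
    intro x
    obtain ⟨p, rfl⟩ := isSurjective_of_repByAlgSpWith has x
    obtain ⟨t, rfl⟩ := (schemePts U).surjective p
    obtain ⟨q, hq⟩ := hx t
    obtain ⟨r, rfl⟩ := isSurjective_of_repByAlgSpWith (hbs t) q
    obtain ⟨s, rfl⟩ := (schemePts (B t)).surjective r
    refine ⟨schemePts _ ((coprodInc B t).left s), ?_⟩
    rw [map_schemePts, map_schemePts, ← hq, map_map, ← ofChart_overMap (coprodInc B t) w s, ← map_schemePts,
      map_congr (Classical.choice (hw t))]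
  have hI : AlgSt.RepByAlgSp1 (FibCat.inertiaToBase (FibCat.toSelf 𝒳)) :=
    repByAlgSp1_of_with (repByAlgSpWith_inertiaToBase _ hqf)
  refine repByAlgSpWith_onSpaces_iff.1 (repByAlgSpWith_iff.2 ⟨faithful_of_repByAlgSp1 hI, fun T y => ?_⟩)
  obtain ⟨V, l, v, hl, hls, ⟨β⟩⟩ := exists_overMap_iso hws
    (repByAlgSpWith_surjective_of_isSurjective (repByAlgSp1_of_with hws) hwsu) y
  refine fibHas_of_cover isLocalOnBase_finite hI l y (fibHas_congr β.symm (fibHas_restr ?_ hI v w ?_))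
  · intro X₁ Y₁ X₂ Y₂ h₁ h₂ h₃ h₄ a b a' b' sq hP hX hY
    exact (isFiniteMor_iff h₃ h₄).2 (repWith_of_isPullback sq ((isFiniteMor_iff h₁ h₂).1 (hP h₁ h₂)))
  · haveI : ∀ t, Flat (coprodInc B t).left := fun t => inferInstance
    refine fibHas_of_family isLocalOnBase_finite hI (fun t => coprodInc B t) (fun x => ?_) w fun t =>
      fibHas_congr (Classical.choice (hw t)).symm (fibHas_inertia (h t) (het t) (hsur t) (hsep t) hqf (b t))
    exact (sigmaOpenCover fun t => (B t).left).exists_eq x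

end Groth.Agent.EtStab
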